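import Groth.Agent.H82.Roots.FibreSplit
import Groth.Agent.H82.Borel.Main
import Groth.Agent.Lib.H1.BorelRoots.Limit
import Groth.Agent.H75.RedKer

/-!
# A Borel subgroup containing the torus, on the geometric fibres
-/

set_option autoImplicit false
set_option linter.style.haveILetI false
set_option linter.unusedSectionVars false
universe u

open CategoryTheory MonoidalCategory CartesianMonoidalCategory MonObj GrpObj AlgebraicGeometry
open Groth.Agent.Lib.RedPts Groth.Agent.H82.BigCell Groth.Agent.H82.Contract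
open Groth.Agent.H82.RankOne (P P_eq P_zero P_comp)

namespace Groth.Agent.H82.BorelStd

variable {S : Scheme.{u}} {G : Over S} [GrpObj G] (D : Red.SplitRed G)

/-- The splitting of a geometric fibre. -/
noncomputable def geomSplit (s : S) : Red.SplitRed (Red.geomFibre s G) :=
  { T := Red.bc (Red.geomPt s) D.T
    i := (Over.pullback (Red.geomPt s)).map D.i
    M := D.M
    idx := D.idx
    P := D.P
    pairing_eq := D.pairing_eq
    u := Roots.fu D
    reductive := Groth.Agent.H1.Classical.RedFibre.isReductive_of_isReductiveOver (D.reductive.2.2 s)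
    maximalTorus :=
      haveI := D.maximalTorus.1
      haveI := D.maximalTorus.2.1
      Groth.Agent.Lib.SmWeil.isMaximalTorus_of_maximal _
        (Groth.Agent.Lib.Tori.Basic.isTorus_bc D.maximalTorus.2.2.1 _) fun T' _ j _ _ f hT' hf =>
          D.maximalTorus.2.2.2 s T' j f hT' hf
    split := Roots.fSplit D
    rootHom := Roots.isRootHom_fu D
    refl := Roots.exists_refl D
    dim_fibre := fun t => by
      haveI := Groth.Agent.Lib.SmWeil.isIso_geomPt t
      refine Eq.trans ?_ (D.dim_fibre s)
      let e := asIso (Limits.pullback.fst (Red.geomFibre s G).hom (Red.geomPt t))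
      exact (Scheme.homeoOfIso e).isHomeomorph.topologicalKrullDim_eq _ }

/-- Over an algebraically closed field being a Borel subgroup is a condition on the group itself. -/
theorem isBorel_of_isBorelOver {K : Type u} [Field K] [IsAlgClosed K] {B G : Over (Spec (CommRingCat.of K))}
    [GrpObj B] [GrpObj G] (i : B ⟶ G) (h : Red.IsBorelOver K i) : Red.IsBorel i := by
  obtain ⟨hm, hc, hs, hcon, hsol, hmax⟩ := h
  haveI := hm
  refine ⟨hm, hc, hs, fun x => ?_⟩
  haveI := Groth.Agent.Lib.SmWeil.isIso_geomPt x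
  let g := Red.geomPt x
  let h := CategoryTheory.inv g
  have hhg : h ≫ g = 𝟙 _ := IsIso.inv_hom_id g
  have hbcs : ∀ {S₁ S₂ : Scheme.{u}} (g : S₂ ⟶ S₁) (B : Over S₁) [GrpObj B], Red.IsSolvableGrp B →
      Red.IsSolvableGrp (Red.bc g B) := fun g B _ hB => by
    obtain ⟨N, hN⟩ := hB
    exact Borel.isSolvableGrp_bc g fun X => le_bot_iff.1 (le_of_eq (hN X))
  haveI := hcon
  refine ⟨inferInstance, MorphismProperty.baseChange_map (P := @IsClosedImmersion) g i hc,
    MorphismProperty.pullback_snd _ _ hs, ?_, hbcs g B hsol, fun B' _ i' _ f hc' hs' hcon' hsol' hf => ?_⟩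
  · let e := asIso (Limits.pullback.fst B.hom g)
    exact e.inv.homeomorph.surjective.connectedSpace e.inv.homeomorph.continuous
  haveI := Groth.Agent.Lib.SmWeil.isIso_backMap g h hhg G
  haveI := Groth.Agent.Lib.SmWeil.isIso_backMap g h hhg B
  haveI := Groth.Agent.Lib.SmWeil.isMonHom_backMap g h hhg G
  haveI : IsIso (Groth.Agent.Lib.SmWeil.backMap g h hhg G).left :=
    inferInstanceAs (IsIso ((Over.forget _).map (Groth.Agent.Lib.SmWeil.backMap g h hhg G)))
  haveI : IsClosedImmersion ((Over.pullback h).map i').left :=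
    MorphismProperty.baseChange_map (P := @IsClosedImmersion) h i' hc'
  haveI : ConnectedSpace (Red.bc h B').left :=
    haveI := hcon'
    let e := asIso (Limits.pullback.fst B'.hom h)
    e.inv.homeomorph.surjective.connectedSpace e.inv.homeomorph.continuous
  have hiso := hmax (Red.bc h B') ((Over.pullback h).map i' ≫ Groth.Agent.Lib.SmWeil.backMap g h hhg G)
    (CategoryTheory.inv (Groth.Agent.Lib.SmWeil.backMap g h hhg B) ≫ (Over.pullback h).map f)
    (by rw [Over.comp_left]; infer_instance) (MorphismProperty.pullback_snd _ _ hs') inferInstance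
    (hbcs h B' hsol') (by
      rw [Category.assoc, ← Functor.map_comp_assoc, hf, Groth.Agent.Lib.SmWeil.backMap_naturality,
        IsIso.inv_hom_id_assoc])
  exact Groth.Agent.Lib.SmWeil.isIso_of_isIso_pullback h f (by
    have e : (Over.pullback h).map f = Groth.Agent.Lib.SmWeil.backMap g h hhg B ≫
        CategoryTheory.inv (Groth.Agent.Lib.SmWeil.backMap g h hhg B) ≫ (Over.pullback h).map f := by
      rw [IsIso.hom_inv_id_assoc]
    rw [e]
    exact IsIso.comp_isIso' inferInstance hiso)

/-- Morphisms with reduced source into a closed subscheme containing the image factor. -/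
theorem exists_factor_of_range {A P G : Over S} (g : A ⟶ G) (p : P ⟶ G) [IsClosedImmersion p.left]
    [IsReduced A.left] (h : Set.range g.left ⊆ Set.range p.left) : ∃ z : A ⟶ P, z ≫ p = g := by
  obtain ⟨r, hr⟩ := Groth.Agent.H75.RedKer.exists_lift g.left p.left h
  refine ⟨Over.homMk r ?_, Over.OverMorphism.ext hr⟩
  rw [← Over.w p, ← Category.assoc, hr, Over.w]

variable {D} {B : Over S} [GrpObj B] {i : B ⟶ G}

/-- The functional of the Borel subgroup at a point. -/
theorem exists_functional (hB : Red.IsBorel i) (t : D.T ⟶ B) (ht : t ≫ i = D.i) (s : S) :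
    ∃ l : D.M →+ ℤ, (∀ a, l (D.P.root a) ≠ 0) ∧
      ∀ {X : Over (Spec (CommRingCat.of (AlgebraicClosure (S.residueField s))))} (g : X ⟶ Red.geomFibre s G),
        (∃ z, z ≫ (Over.pullback (Red.geomPt s)).map i = g) ↔ ∃ L, IsLimPt (gcochar (geomSplit D s) l) g L := by
  haveI := hB.1
  haveI := hB.2.1
  haveI := hB.2.2.1
  exact Groth.Agent.Lib.H1.BorelRoots.exists_borel_functional (D := geomSplit D s) (Red.bc (Red.geomPt s) B)
    ((Over.pullback (Red.geomPt s)).map i) (isBorel_of_isBorelOver _ (hB.2.2.2 s))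
    ((Over.pullback (Red.geomPt s)).map t) (((Over.pullback (Red.geomPt s)).map_comp t i).symm.trans (congrArg _ ht))

/-- The value at `1` of a root homomorphism lies in `B` over `s` exactly for the positive roots. -/
theorem mem_iff (hB : Red.IsBorel i) {s : S} {l : D.M →+ ℤ} (hl : ∀ a, l (D.P.root a) ≠ 0)
    (h : ∀ {X : Over (Spec (CommRingCat.of (AlgebraicClosure (S.residueField s))))} (g : X ⟶ Red.geomFibre s G),
        (∃ z, z ≫ (Over.pullback (Red.geomPt s)).map i = g) ↔ ∃ L, IsLimPt (gcochar (geomSplit D s) l) g L)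
    (a : D.idx) :
    (P (D.u a) (1 : Γ((𝟙_ (Over S)).left, ⊤))).left s ∈ Set.range i.left ↔ 0 < l (D.P.root a) := by
  haveI := hB.1
  haveI := hB.2.1
  haveI := D.maximalTorus.1
  let K := AlgebraicClosure (S.residueField s)
  let j := Red.geomPt s
  let x₀ : (𝟙_ (Over (Spec (CommRingCat.of K))) : Over _).left := IsLocalRing.closedPoint K
  let q : 𝟙_ (Over (Spec (CommRingCat.of K))) ⟶ Red.geomFibre s G :=
    P ((geomSplit D s).u a) (1 : Γ((𝟙_ (Over (Spec (CommRingCat.of K)))).left, ⊤))
  have hq : q.left ≫ Limits.pullback.fst G.hom j = j ≫ (P (D.u a) (1 : Γ((𝟙_ (Over S)).left, ⊤))).left := by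
    have h1 : BC.down j q = toUnit _ ≫ P (D.u a) (1 : Γ((𝟙_ (Over S)).left, ⊤)) := by
      rw [P_comp, map_one]
      show BC.down j (Ga.gaPt 1 ≫ Roots.fu D a) = _
      rw [Roots.down_fu, Ga.gaFn_gaPt]
      rfl
    have h2 := congrArg (fun z => z.left) h1
    rw [BC.down_left, Over.comp_left] at h2
    exact h2.trans (congrArg (· ≫ _) (by simp [Over.toUnit_left]))
  have hmem : (P (D.u a) (1 : Γ((𝟙_ (Over S)).left, ⊤))).left s ∈ Set.range i.left ↔
      q.left x₀ ∈ Set.range ((Over.pullback j).map i).left := by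
    have hs : (q.left ≫ Limits.pullback.fst G.hom j) x₀ = (P (D.u a) (1 : Γ((𝟙_ (Over S)).left, ⊤))).left s := by
      rw [hq, Scheme.Hom.comp_apply]
      exact congrArg _ ((Scheme.Hom.comp_apply _ _ _).trans (Scheme.fromSpecResidueField_apply _ _))
    have hpb : IsPullback (Limits.pullback.fst B.hom j) ((Over.pullback j).map i).left i.left
        (Limits.pullback.fst G.hom j) := by
      refine IsPullback.of_bot ?_ ?_ (IsPullback.of_hasPullback G.hom j)
      · convert IsPullback.of_hasPullback B.hom j using 1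
        · exact Over.w ((Over.pullback j).map i)
        · exact Over.w i
      · exact (Limits.pullback.lift_fst _ _ _).symm
    constructor
    · rintro ⟨b, hb⟩
      obtain ⟨c, -, hc⟩ := Scheme.Pullback.exists_preimage_pullback (f := i.left) (g := Limits.pullback.fst G.hom j)
        b (q.left x₀) (by rw [hb, ← hs, Scheme.Hom.comp_apply])
      refine ⟨hpb.isoPullback.inv c, ?_⟩
      rw [← hc, ← Scheme.Hom.comp_apply, IsPullback.isoPullback_inv_snd]
    · rintro ⟨c, hc⟩
      refine ⟨Limits.pullback.fst B.hom j c, ?_⟩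
      rw [← Scheme.Hom.comp_apply, hpb.w, Scheme.Hom.comp_apply, hc, ← hs, Scheme.Hom.comp_apply]
  rw [hmem]
  constructor
  · intro hx
    by_contra hn
    have hneg : 0 < (-l) (D.P.root a) := by
      have := hl a
      simp only [AddMonoidHom.neg_apply]
      omega
    haveI : IsClosedImmersion ((Over.pullback j).map i).left :=
      MorphismProperty.baseChange_map (P := @IsClosedImmersion) _ i hB.2.1
    obtain ⟨z, hz⟩ : ∃ z, z ≫ (Over.pullback j).map i = q := by
      haveI : IsReduced (𝟙_ (Over (Spec (CommRingCat.of K))) : Over _).left :=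
        inferInstanceAs (IsReduced (Spec (CommRingCat.of K)))
      refine exists_factor_of_range q ((Over.pullback j).map i) ?_
      rintro _ ⟨y, rfl⟩
      rwa [show y = x₀ from @Subsingleton.elim _ (inferInstanceAs (Subsingleton (PrimeSpectrum K))) _ _]
    obtain ⟨L, hL⟩ := (h q).1 ⟨z, hz⟩
    have hY : Groth.Agent.H82.Borel.IsACPt (𝟙_ (Over (Spec (CommRingCat.of K)))) :=
      Groth.Agent.H82.Borel.isACPt_mk (S := Spec (CommRingCat.of K)) K (𝟙 _)
    haveI := hY.aff
    haveI := hY.isField.nontrivial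
    haveI := isAffineHom (geomSplit D s)
    obtain ⟨t, ht⟩ := exists_torus_of_regular (D := geomSplit D s) hl (Groth.Agent.H82.Borel.commutes_of_isLimPt hL)
    have h1 : IsLimPt (gcochar (geomSplit D s) l) ((t ≫ (geomSplit D s).i)⁻¹ * q) 1 := by
      have := (isLimPt_torus_pt (D := geomSplit D s) (l := l) t).inv.mul hL
      rwa [← ht, inv_mul_cancel] at this
    have h2 := (Groth.Agent.H82.R2.Iso.form_unique (D := geomSplit D s) (t := (1 : 𝟙_ _ ⟶ (geomSplit D s).T))
      (t' := t) hl
      (Groth.Agent.H82.Bruhat.root_mem_unip (D := geomSplit D s) (c := a) hneg 1) (one_mem _) (one_mem _) h1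
      (by rw [MonObj.one_comp, _root_.mul_one, _root_.mul_one, _root_.one_mul, mul_inv_cancel_left])).1
    exact Groth.Agent.Lib.H1.AlmostSimple.P_ne_one (D := geomSplit D s) a one_ne_zero h2
  · intro ha
    obtain ⟨z, hz⟩ := (h q).2 ⟨1, Groth.Agent.H82.Bruhat.root_mem_unip (D := geomSplit D s) (c := a) ha _⟩
    exact ⟨z.left x₀, by rw [← Scheme.Hom.comp_apply, ← Over.comp_left, hz]⟩

theorem down_prodPts {S' : Scheme.{u}} (j : S' ⟶ S) {G : Over S} [GrpObj G] {X : Over S'} :
    ∀ {n : ℕ} (a : Fin n → (X ⟶ Red.bc j G)), BC.down j (prodPts n a) = prodPts n fun k => BC.down j (a k)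
  | 0, _ => (BC.downMulEquiv j X G).map_one
  | n + 1, a => by rw [prodPts_succ, BC.down_mul, down_prodPts j, prodPts_succ]

set_option maxHeartbeats 1000000 in
/-- Points of `B` over `s`, seen over `S`, have limits. -/
theorem down_mem_bor {s : S} {l : D.M →+ ℤ} (hl : ∀ a, l (D.P.root a) ≠ 0)
    {n m : ℕ} {e : Fin n → D.idx} {e' : Fin m → D.idx} (hinj : Function.Injective e) (hinj' : Function.Injective e')
    (he : ∀ k, l (D.P.root (e k)) < 0) (he' : ∀ k, 0 < l (D.P.root (e' k))) (hcard : n + m = Fintype.card D.idx)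
    (h : ∀ {X : Over (Spec (CommRingCat.of (AlgebraicClosure (S.residueField s))))} (g : X ⟶ Red.geomFibre s G),
        (∃ z, z ≫ (Over.pullback (Red.geomPt s)).map i = g) ↔ ∃ L, IsLimPt (gcochar (geomSplit D s) l) g L)
    {X : Over (Spec (CommRingCat.of (AlgebraicClosure (S.residueField s))))} (b : X ⟶ Red.bc (Red.geomPt s) B) :
    BC.down (Red.geomPt s) b ≫ i ∈ Bruhat.bor (D := D) l ((Over.map (Red.geomPt s)).obj X) := by
  haveI := isOpenImmersion_cellMap (D := geomSplit D s) (l := l) (e := e) (e' := e') hinj hinj' he he' hcard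
  obtain ⟨z, hz⟩ := (Borel.exists_iff_lim (D := geomSplit D s) (e := e) (e' := e') hl he he' _).2 ((h _).1 ⟨b, rfl⟩)
  have key : ∀ (x : X ⟶ Red.Ga _) (c : D.idx), 0 < l (D.P.root c) →
      IsLimPt (gcochar D l) (BC.down (Red.geomPt s) (x ≫ Roots.fu D c)) 1 := fun x c hc => by
    rw [Roots.down_fu]
    exact Bruhat.root_mem_unip (D := D) hc _
  rw [← BC.down_map, ← hz, Borel.comp_borelMap, BC.down_mul]
  refine mul_mem ?_ ?_
  · show BC.down _ (_ ≫ (Over.pullback (Red.geomPt s)).map D.i) ∈ _
    rw [BC.down_map]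
    exact Bruhat.torus_mem_bor l _
  · rw [comp_prodMap, down_prodPts]
    exact Bruhat.unip_le_bor l _ (show IsLimPt _ _ _ from isLimPt_prodPts fun k => by
      rw [← Category.assoc]
      exact key _ _ (he' k))

end Groth.Agent.H82.BorelStd
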