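import Groth.Agent.H75.BaseChange.Nhd
import Groth.Agent.Lib.RedPts.BC
import Groth.Agent.H82.Contract.Dim
import Groth.Prelude.Def_Red2

/-!
# Morphisms which are monomorphisms on the geometric fibres; smooth morphisms of constant fibre dimension
-/

set_option autoImplicit false
set_option linter.style.haveILetI false
universe u

open CategoryTheory MonoidalCategory CartesianMonoidalCategory AlgebraicGeometry
open Groth.Agent.Lib.RedPts

namespace Groth.Agent.H82.BorelStd

variable {S : Scheme.{u}}

theorem geomPt_apply (s : S) (x : ↥(Spec (CommRingCat.of (AlgebraicClosure (S.residueField s))))) :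
    Red.geomPt s x = s :=
  (Scheme.Hom.comp_apply _ _ _).trans (Scheme.fromSpecResidueField_apply _ _)

theorem mono_snd_of_mono_map {S' : Scheme.{u}} {X Y : Over S} (f : X ⟶ Y) (j : S' ⟶ S)
    [Mono ((Over.pullback j).map f)] : Mono (Limits.pullback.snd f.left (Limits.pullback.fst Y.hom j)) := by
  let g : Limits.pullback Y.hom j ⟶ Y.left := Limits.pullback.fst Y.hom j
  haveI : Mono ((Over.pullback j).map f).left := Over.mono_left_of_mono _
  refine ⟨fun {W} a b hab' => ?_⟩
  let A : ∀ c : W ⟶ Limits.pullback f.left g, W ⟶ Limits.pullback X.hom j := fun c =>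
    Limits.pullback.lift (c ≫ Limits.pullback.fst _ _) (c ≫ Limits.pullback.snd _ _ ≫ Limits.pullback.snd _ _) (by
      rw [← Over.w f]
      simp only [Category.assoc, g, ← Limits.pullback.condition (f := Y.hom) (g := j)]
      rw [Limits.pullback.condition_assoc])
  have hA : ∀ c, A c ≫ ((Over.pullback j).map f).left = c ≫ Limits.pullback.snd f.left g := fun c => by
    refine Limits.pullback.hom_ext ?_ ?_
    · simp only [A, Category.assoc]
      erw [Limits.pullback.lift_fst]
      rw [Limits.pullback.lift_fst_assoc, Category.assoc, Limits.pullback.condition]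
    · simp only [A, Category.assoc]
      erw [Limits.pullback.lift_snd]
      rw [Limits.pullback.lift_snd]
  have hab : A a = A b := (cancel_mono ((Over.pullback j).map f).left).1 (by rw [hA, hA, hab'])
  refine Limits.pullback.hom_ext ?_ hab'
  simpa only [A, Limits.pullback.lift_fst] using congrArg (fun z => z ≫ Limits.pullback.fst _ _) hab

/-- A morphism which is a monomorphism on each geometric fibre is a monomorphism. -/
theorem mono_of_geomFibres {X Y : Over S} (f : X ⟶ Y) [LocallyOfFiniteType f.left]
    (h : ∀ s : S, Mono ((Over.pullback (Red.geomPt s)).map f)) : Mono f.left := by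
  have hunr : ∀ x : X.left, ∃ V : X.left.Opens, x ∈ V ∧ FormallyUnramified (V.ι ≫ f.left) := fun x => by
    let j := Red.geomPt (X.hom x)
    let g : Limits.pullback Y.hom j ⟶ Y.left := Limits.pullback.fst Y.hom j
    haveI := h (X.hom x)
    haveI : Mono (Limits.pullback.snd f.left g) := mono_snd_of_mono_map f j
    obtain ⟨y, hy⟩ : f.left x ∈ Set.range g := by
      rw [Scheme.Pullback.range_fst, Set.mem_preimage, ← Scheme.Hom.comp_apply, Over.w f]
      exact ⟨IsLocalRing.closedPoint _, geomPt_apply _ _⟩
    obtain ⟨w, hw, -⟩ := Scheme.Pullback.exists_preimage_pullback (f := f.left) (g := g) x y hy.symm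
    obtain ⟨V, hV, hV'⟩ := Groth.Agent.H75.BaseChange.unramified_nhd_descend f.left g w
      ⟨⊤, trivial, inferInstance⟩
    exact ⟨V, hw ▸ hV, hV'⟩
  choose V hV hV' using hunr
  haveI : FormallyUnramified f.left :=
    (IsZariskiLocalAtSource.iff_of_openCover (P := @FormallyUnramified) (X.left.openCoverOfIsOpenCover V
      (TopologicalSpace.IsOpenCover.mk (eq_top_iff.2 fun w _ =>
        TopologicalSpace.Opens.mem_iSup.2 ⟨w, hV w⟩)))).2 hV'
  haveI : Surjective (Limits.pullback.diagonal f.left) := by
    refine ⟨fun q => ?_⟩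
    let k := (Limits.pullback f.left f.left).residueField q
    let K := AlgebraicClosure k
    let zK : Spec (CommRingCat.of K) ⟶ Limits.pullback f.left f.left :=
      Spec.map (CommRingCat.ofHom (algebraMap k K)) ≫ (Limits.pullback f.left f.left).fromSpecResidueField q
    let π := Limits.pullback.fst f.left f.left ≫ X.hom
    let k₀ := S.residueField (π q)
    letI : Algebra k₀ k := (π.residueFieldMap q).hom.toAlgebra
    letI : Algebra k₀ K := ((algebraMap k K).comp (algebraMap k₀ k)).toAlgebra
    let σ : AlgebraicClosure k₀ →ₐ[k₀] K := IsAlgClosed.lift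
    let a : Spec (CommRingCat.of K) ⟶ Spec (CommRingCat.of (AlgebraicClosure k₀)) :=
      Spec.map (CommRingCat.ofHom σ.toRingHom)
    have hcomm : a ≫ Red.geomPt (π q) = zK ≫ π := by
      show Spec.map _ ≫ Spec.map _ ≫ _ = (Spec.map _ ≫ _) ≫ _
      rw [← Spec.map_comp_assoc, Category.assoc, ← Scheme.Hom.SpecMap_residueFieldMap_fromSpecResidueField,
        ← Spec.map_comp_assoc]
      congr 2
      exact CommRingCat.hom_ext (RingHom.ext fun x => σ.commutes x)
    let Z : Over (Spec (CommRingCat.of (AlgebraicClosure k₀))) := Over.mk a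
    let p₁ : (Over.map (Red.geomPt (π q))).obj Z ⟶ X := Over.homMk (zK ≫ Limits.pullback.fst _ _) (by
      rw [Category.assoc]; exact hcomm.symm)
    let p₂ : (Over.map (Red.geomPt (π q))).obj Z ⟶ X := Over.homMk (zK ≫ Limits.pullback.snd _ _) (by
      rw [← Over.w f, Category.assoc, ← Limits.pullback.condition_assoc, Over.w f]; exact hcomm.symm)
    haveI := h (π q)
    have hp : p₁ = p₂ := by
      have h1 : BC.up _ p₁ = BC.up _ p₂ := (cancel_mono ((Over.pullback (Red.geomPt (π q))).map f)).1
        (BC.down_injective (by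
          rw [BC.down_map, BC.down_map, BC.down_up, BC.down_up]
          refine Over.OverMorphism.ext ?_
          simp only [Over.comp_left, p₁, p₂, Over.homMk_left, Category.assoc, Limits.pullback.condition]))
      simpa using congrArg (BC.down _) h1
    refine ⟨(zK ≫ Limits.pullback.fst _ _) (IsLocalRing.closedPoint K), ?_⟩
    rw [← Scheme.Hom.comp_apply]
    have h2 : (zK ≫ Limits.pullback.fst _ _) ≫ Limits.pullback.diagonal f.left = zK := by
      refine Limits.pullback.hom_ext ?_ ?_
      · rw [Category.assoc, Limits.pullback.diagonal_fst, Category.comp_id]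
      · rw [Category.assoc, Limits.pullback.diagonal_snd, Category.comp_id]
        exact congrArg (fun z => z.left) hp
    rw [h2]
    exact (Scheme.Hom.comp_apply _ _ _).trans (Scheme.fromSpecResidueField_apply _ _)
  haveI : IsIso (Limits.pullback.diagonal f.left) := by
    rw [isIso_iff_isOpenImmersion_and_surjective]
    exact ⟨inferInstance, inferInstance⟩
  refine ⟨fun {W} a b hab => ?_⟩
  let c := Limits.pullback.lift a b hab ≫ inv (Limits.pullback.diagonal f.left)
  have hc : c ≫ Limits.pullback.diagonal f.left = Limits.pullback.lift a b hab := by simp [c]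
  have ha := congrArg (· ≫ Limits.pullback.fst _ _) hc
  have hb := congrArg (· ≫ Limits.pullback.snd _ _) hc
  simp only [Category.assoc, Limits.pullback.diagonal_fst, Limits.pullback.diagonal_snd, Category.comp_id,
    Limits.pullback.lift_fst, Limits.pullback.lift_snd] at ha hb
  exact ha.symm.trans hb

/-- A smooth morphism whose fibres have dimension `n` has relative dimension `n`. -/
theorem smoothOfRelativeDimension_of_fibreDimAt {X Y : Scheme.{u}} (f : X ⟶ Y) [Smooth f] {n : ℕ}
    (h : ∀ x, FlatMor.fibreDimAt f x = (n : WithBot ℕ∞)) : SmoothOfRelativeDimension n f := by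
  refine ⟨fun x => ?_⟩
  obtain ⟨n', U, V, hU, hV, e, hx, hstd⟩ := Groth.Agent.Lib.Kaehler.SmoothChart.exists_std_chart f x
  have h1 := Groth.Agent.Lib.Kaehler.SmoothChart.fibreDimAt_of_chart hU hV e hstd hx
  rw [h] at h1
  obtain rfl : n = n' := by exact_mod_cast h1
  exact ⟨U, hU, V, hV, hx, e, hstd⟩

end Groth.Agent.H82.BorelStd
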